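import Cfsg.Agent.Lyons.Local.Main
import Cfsg.Agent.CentralIndexFour.Dihedral
import Cfsg.Agent.Walter.Main
import Cfsg.Agent.Walter.Consumers.Types
import Cfsg.Agent.FourGroupGW.Main
import Cfsg.Agent.S0813
import Cfsg.Agent.Components.PComponents
import Cfsg.Agent.BenderSE.Dependents.CriterionGeneral

/-!
A group with trivial odd core, no proper normal subgroup of odd index and a Sylow 2-subgroup of type `U₃(4)` is
simple or a 2-group.
-/

set_option autoImplicit false
set_option linter.unusedSectionVars false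
set_option linter.style.haveILetI false

namespace Cfsg.Lib.Lyons.Consumers

open Subgroup Cfsg.Lib.InvolCalc Cfsg.Lib.BenderSE Cfsg.Lib.BenderSE.Ring2 Cfsg.Lib.Lyons
open scoped commutatorElement

universe u

variable {G : Type u} [Group G] [Finite G]

/-- `z` is central when no element of the Sylow normaliser moves it. -/
theorem central_of_fixed (S : Sylow 2 G) (h : UFour (S : Subgroup G)) (hO : Cfsg.oddCore G = ⊥) {z : G}
    (hz : z ∈ cenOf (S : Subgroup G)) (hz1 : z ≠ 1)
    (hfix : ∀ n ∈ normalizer ((S : Subgroup G) : Set G), n * z * n⁻¹ = z) : z ∈ center G := by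
  have ho := h.orderOf_eq_two hz hz1
  have hiso : Cfsg.IsIsolatedInvolution z := by
    refine ⟨ho, fun g hg => isolated_of_unique S ho (fun g hg => ?_) hg⟩
    obtain ⟨n, hn, he⟩ := fusion S h z hz.1 _ hg (isConj_iff.2 ⟨g, rfl⟩)
    rw [← he]
    exact hfix n hn
  refine mem_center_iff.2 fun g => ?_
  have h1 : z * g * z⁻¹ * g⁻¹ ∈ Cfsg.oddCore G := ZStarApps.zstarProp hiso g
  rw [hO, mem_bot, mul_inv_eq_one, mul_inv_eq_iff_eq_mul] at h1
  exact h1.symm

/-- All of `Z(S)` is central, or none of its involutions. -/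
theorem cen_central (S : Sylow 2 G) (h : UFour (S : Subgroup G)) (hO : Cfsg.oddCore G = ⊥) {z : G}
    (hz : z ∈ cenOf (S : Subgroup G)) (hz1 : z ≠ 1) (hzc : z ∈ center G) :
    cenOf (S : Subgroup G) ≤ center G := by
  intro w hw
  by_cases hw1 : w = 1
  · rw [hw1]; exact one_mem _
  exact central_of_fixed S h hO hw hw1 fun n hn =>
    cen_fix S h hn hz hz1 (by rw [mem_center_iff.1 hzc n, mul_inv_cancel_right]) w hw

theorem sylow_in_normal (S : Sylow 2 G) (N : Subgroup G) [N.Normal] :
    ∃ T : Sylow 2 N, (T : Subgroup N) = (S : Subgroup G).subgroupOf N :=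
  Cfsg.Lib.BenderSE.CritDep.exists_sylow_inf S N (fun _ _ => by rw [normalizer_eq_top]; exact mem_top _)

theorem exists_invol_mem (S : Sylow 2 G) (N : Subgroup G) [N.Normal] (h2 : 2 ∣ Nat.card N) :
    ∃ w ∈ N, w ∈ (S : Subgroup G) ∧ orderOf w = 2 := by
  haveI : Fact (Nat.Prime 2) := ⟨Nat.prime_two⟩
  obtain ⟨x, hx⟩ := exists_prime_orderOf_dvd_card' 2 h2
  obtain ⟨g, -, hg⟩ := CentralFour.exists_conj_into (P := S) (H := ⊤) le_top
    (IsPGroup.of_card (n := 1) (by rw [Nat.card_zpowers, orderOf_coe, hx, pow_one]) :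
      IsPGroup 2 (zpowers (x : G))) le_top
  exact ⟨g * x * g⁻¹, (inferInstance : N.Normal).conj_mem _ x.2 g, hg _ (mem_zpowers _),
    by rw [orderOf_conj', orderOf_coe, hx]⟩

theorem invol_mem_cen (S : Sylow 2 G) (h : UFour (S : Subgroup G)) {w : G} (hw : w ∈ (S : Subgroup G))
    (ho : orderOf w = 2) : w ∈ cenOf (S : Subgroup G) :=
  h.mem_cen_of_sq hw (by rw [← ho, pow_orderOf_eq_one])

theorem eq_bot_of_odd_normal (hO : Cfsg.oddCore G = ⊥) (N : Subgroup G) [N.Normal] (h : ¬ 2 ∣ Nat.card N) :
    N = ⊥ :=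
  le_bot_iff.1 (hO ▸ Cfsg.Lib.Components.le_pPrimeCore
    ((Nat.prime_two.coprime_iff_not_dvd.2 h).symm))

/-- A group with trivial odd core, no proper normal subgroup of odd index and a Sylow 2-subgroup of type
`U₃(4)` is simple or a 2-group. -/
theorem simple_or_top (S : Sylow 2 G) (h : UFour (S : Subgroup G)) (hO : Cfsg.oddCore G = ⊥)
    (hO' : ∀ N : Subgroup G, N.Normal → Odd N.index → N = ⊤) :
    IsSimpleGroup G ∨ (S : Subgroup G) = ⊤ := by
  haveI : Fact (Nat.Prime 2) := ⟨Nat.prime_two⟩
  set W := cenOf (S : Subgroup G) with hWdef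
  by_cases hc : ∃ z ∈ W, z ≠ 1 ∧ z ∈ center G
  · obtain ⟨z, hz, hz1, hzc⟩ := hc
    refine Or.inr (hO' _ (normal_of_central regProp S h hO (cen_central S h hO hz hz1 hzc)) ?_)
    rw [← Nat.not_even_iff_odd, even_iff_two_dvd]
    exact S.not_dvd_index
  push Not at hc
  left
  obtain ⟨z, hz, hz1⟩ : ∃ z ∈ W, z ≠ 1 := by
    by_contra hh
    push Not at hh
    have h1 : W = ⊥ := (eq_bot_iff_forall _).2 hh
    have := h.card_cen
    rw [← hWdef, h1, card_bot] at this
    omega
  obtain ⟨n, hn, hnz⟩ : ∃ n ∈ normalizer ((S : Subgroup G) : Set G), n * z * n⁻¹ ≠ z := by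
    by_contra hh
    push Not at hh
    exact hc z hz hz1 (central_of_fixed S h hO hz hz1 hh)
  obtain ⟨p, hp, k, hk, hkodd, rfl⟩ := CentralFour.normalizer_decomp S hn
  have hkz : k * z * k⁻¹ ≠ z := fun e => hnz (by
    calc p * k * z * (p * k)⁻¹ = p * (k * z * k⁻¹) * p⁻¹ := by group
      _ = z := by rw [e, hz.2 p hp, mul_inv_cancel_right])
  have hkC : k ∉ centralizer ({z} : Set G) := fun e => hkz (mem_cent_iff.1 e)
  obtain ⟨hk3, hcyc⟩ := three_cycle S h hz hz1 hk hkodd hkC
  -- every nontrivial normal subgroup contains `Z(S)`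
  have hW : ∀ (M : Subgroup G), M.Normal → M ≠ ⊥ → W ≤ M := by
    intro M hM hM1 v hv
    haveI := hM
    by_cases hv1 : v = 1
    · rw [hv1]; exact one_mem _
    obtain ⟨w, hwM, hwS, hwo⟩ := exists_invol_mem S M (by
      by_contra h2
      exact hM1 (eq_bot_of_odd_normal hO M h2))
    obtain ⟨i, rfl⟩ := hcyc v hv hv1
    obtain ⟨j, rfl⟩ := hcyc w (invol_mem_cen S h hwS hwo) (fun e => by rw [e, orderOf_one] at hwo; omega)
    have h1 := hM.conj_mem _ hwM (k ^ i * (k ^ j)⁻¹)
    rwa [show k ^ i * (k ^ j)⁻¹ * (k ^ j * z * (k ^ j)⁻¹) * (k ^ i * (k ^ j)⁻¹)⁻¹ = k ^ i * z * (k ^ i)⁻¹ by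
      group] at h1
  have hWn : ∀ M : Subgroup G, M.Normal → M ≤ (S : Subgroup G) → (∀ x ∈ M, x * x = 1) → M = ⊥ := by
    intro M hM hMS hsq
    haveI := hM
    by_contra hM1
    have hMW : M = W := le_antisymm (fun x hx => (h.cen_iff x (hMS hx)).1 (hsq x hx)) (hW M hM hM1)
    have hC : (centralizer (M : Set G)) = ⊤ := by
      refine hO' _ inferInstance ?_
      have hle : (S : Subgroup G) ≤ centralizer (M : Set G) := fun x hx => mem_centralizer_iff.2 fun w hw => by
        have hw' : w ∈ W := hMW ▸ hw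
        exact (hw'.2 x hx).symm
      rw [← Nat.not_even_iff_odd, even_iff_two_dvd]
      exact fun hd => S.not_dvd_index (hd.trans (index_dvd_of_le hle))
    refine hc z hz hz1 (mem_center_iff.2 fun g => ?_)
    have hg : g ∈ centralizer (M : Set G) := hC ▸ mem_top g
    exact (mem_centralizer_iff.1 hg z (hMW ▸ hz : z ∈ M)).symm
  set N := normalClosure (W : Set G) with hNdef
  have hWN : W ≤ N := le_normalClosure
  have hN1 : N ≠ ⊥ := fun e => hz1 (mem_bot.1 (e ▸ hWN hz))
  have hO2 : ∀ M : Subgroup G, M.Normal → IsPGroup 2 M → M = ⊥ := by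
    intro M hM hM2
    haveI := hM
    by_contra hM1
    have hMS : M ≤ (S : Subgroup G) :=
      (S.3 (hM2.to_sup_of_normal_left S.2) le_sup_right) ▸ le_sup_left
    -- the subgroup `Z(S)` of `M` is normal
    haveI : W.Normal := ⟨fun w hw g => (h.cen_iff _ (hMS (hM.conj_mem w (hW M hM hM1 hw) g))).1 (by
      rw [show g * w * g⁻¹ * (g * w * g⁻¹) = g * (w * w) * g⁻¹ by group, h.cen_sq hw, mul_one, mul_inv_cancel])⟩
    have := hWn W inferInstance (fun x hx => hx.1) (fun x hx => h.cen_sq hx)
    exact hz1 (mem_bot.1 (this ▸ hz))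
  -- the minimal normal subgroup is simple
  have hNodd : ∀ M : Subgroup N, M.Normal → M ≠ ⊥ → 2 ∣ Nat.card M := by
    intro M hM hM1
    by_contra h2
    haveI := hM
    have h3 : M ≤ Cfsg.oddCore N := Cfsg.Lib.Components.le_pPrimeCore ((Nat.prime_two.coprime_iff_not_dvd.2 h2).symm)
    haveI : ((Cfsg.oddCore N).map N.subtype).Normal := by
      haveI : (Cfsg.oddCore N).Characteristic := Cfsg.Lib.Components.pPrimeCore_characteristic
      exact inferInstance
    have hbot : (Cfsg.oddCore N).map N.subtype = ⊥ := eq_bot_of_odd_normal hO _ (by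
      rw [card_map_of_injective N.subtype_injective]
      exact odd_oddCore.not_two_dvd_nat)
    rw [(map_eq_bot_iff_of_injective _ N.subtype_injective).1 hbot, le_bot_iff] at h3
    exact hM1 h3
  have hsimple : IsSimpleGroup N := by
    haveI : Nontrivial N := Subgroup.nontrivial_iff_ne_bot N |>.2 hN1
    refine ⟨fun M₀ hM₀ => ?_⟩
    by_contra hh
    push Not at hh
    obtain ⟨M, ⟨hMn, hM1, hMle⟩, hmin⟩ := WellFounded.has_min (wellFounded_lt (α := Subgroup N))
      {M : Subgroup N | M.Normal ∧ M ≠ ⊥ ∧ M ≤ M₀} ⟨M₀, hM₀, hh.1, le_rfl⟩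
    haveI := hMn
    have hmin' : ∀ M' : Subgroup N, M'.Normal → M' ≤ M → M' = ⊥ ∨ M' = M := fun M' hn' hle =>
      or_iff_not_imp_left.2 fun h1 => hle.eq_of_not_lt fun hlt => hmin M' ⟨hn', h1, hle.trans hMle⟩ hlt
    set M' := M.map N.subtype with hM'def
    have hM'S : ∀ x ∈ M', x ∈ N := fun x hx => map_subtype_le M hx
    obtain ⟨T, hT⟩ := sylow_in_normal S N
    obtain ⟨w, hwM, hwS, hwo⟩ := exists_invol_mem T M (hNodd M hMn hM1)
    have hwS' : (w : G) ∈ (S : Subgroup G) := by rw [hT] at hwS; exact mem_subgroupOf.1 hwS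
    have hwW : (w : G) ∈ W := invol_mem_cen S h hwS' (by rw [orderOf_coe, hwo])
    have hw1 : (w : G) ≠ 1 := fun e => by
      rw [show w = 1 from Subtype.ext e, orderOf_one] at hwo; omega
    by_cases hother : ∃ v ∈ W, v ≠ 1 ∧ v ≠ (w : G) ∧ v ∈ M'
    · obtain ⟨v, hv, hv1, hvw, hvM⟩ := hother
      have hall : W ≤ M' := by
        intro u hu
        rcases h.cen_cases hwW hv hw1 hv1 (Ne.symm hvw) hu with rfl | rfl | rfl | rfl
        exacts [one_mem _, mem_map_of_mem _ hwM, hvM, mul_mem (mem_map_of_mem _ hwM) hvM]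
      have hnorm : M'.Normal := by
        refine ⟨fun x hx g => ?_⟩
        -- the conjugate subgroup meets `M` in an involution
        set φ : MulAut N := MulAut.conjNormal g
        haveI : (M.map φ.toMonoidHom).Normal := hMn.map _ φ.surjective
        have hne : M ⊓ M.map φ.toMonoidHom ≠ ⊥ := by
          intro e
          obtain ⟨u, huM, huS, huo⟩ := exists_invol_mem T (M.map φ.toMonoidHom) (by
            rw [show Nat.card (M.map φ.toMonoidHom) = Nat.card M from card_map_of_injective φ.injective]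
            exact hNodd M hMn hM1)
          have huS' : (u : G) ∈ (S : Subgroup G) := by rw [hT] at huS; exact mem_subgroupOf.1 huS
          obtain ⟨u', hu', e'⟩ := hall (invol_mem_cen S h huS' (by rw [orderOf_coe, huo]))
          have : u ∈ M ⊓ M.map φ.toMonoidHom := ⟨N.subtype_injective e' ▸ hu', huM⟩
          rw [e, mem_bot] at this
          rw [this, orderOf_one] at huo
          omega
        have h1 := (hmin' _ inferInstance inf_le_left).resolve_left hne
        have h2 : M.map φ.toMonoidHom = M :=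
          (eq_of_le_of_card_ge (inf_eq_left.1 h1) (card_map_of_injective φ.injective).le).symm
        obtain ⟨y, hy, rfl⟩ := hx
        exact ⟨φ y, h2 ▸ mem_map_of_mem _ hy, MulAut.conjNormal_apply g y⟩
      have hNM : N ≤ M' := normalClosure_le_normal (by intro u hu; exact hall hu)
      refine hh.2 ((eq_top_iff' _).2 fun y => hMle ?_)
      obtain ⟨y', hy', e⟩ := hNM y.2
      exact N.subtype_injective e ▸ hy'
    · push Not at hother
      obtain ⟨T', hT'⟩ := sylow_in_normal T M
      have hiso : Cfsg.IsIsolatedInvolution (⟨w, hwM⟩ : M) := by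
        have hwo' : orderOf (⟨w, hwM⟩ : M) = 2 := by rw [Subgroup.orderOf_mk, hwo]
        refine ⟨hwo', fun g hg => isolated_of_unique T' hwo' (fun g hg => ?_) hg⟩
        replace hg : g * ⟨w, hwM⟩ * g⁻¹ ∈ (T' : Subgroup M) := hg
        rw [hT', mem_subgroupOf, hT, mem_subgroupOf] at hg
        set v := g * ⟨w, hwM⟩ * g⁻¹
        have hvo : orderOf v = 2 := by rw [orderOf_conj', hwo']
        have hvo' : orderOf ((v : N) : G) = 2 := by rw [orderOf_coe, orderOf_coe, hvo]
        have e : ((v : N) : G) = w := by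
          by_contra hne
          exact hother _ (invol_mem_cen S h hg hvo') (fun e => by rw [e, orderOf_one] at hvo'; omega) hne
            (mem_map_of_mem _ v.2)
        exact Subtype.ext (Subtype.ext e)
      have hOM : Cfsg.oddCore M = ⊥ := by
        haveI : (Cfsg.oddCore M).Characteristic := Cfsg.Lib.Components.pPrimeCore_characteristic
        haveI : ((Cfsg.oddCore M).map M.subtype).Normal := inferInstance
        by_contra hne
        have := hNodd ((Cfsg.oddCore M).map M.subtype) inferInstance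
          (fun e => hne ((map_eq_bot_iff_of_injective _ M.subtype_injective).1 e))
        rw [card_map_of_injective M.subtype_injective] at this
        exact odd_oddCore.not_two_dvd_nat this
      have hwc : (⟨w, hwM⟩ : M) ∈ center M := mem_center_iff.2 fun g => by
        have h1 : (⟨w, hwM⟩ : M) * g * (⟨w, hwM⟩ : M)⁻¹ * g⁻¹ ∈ Cfsg.oddCore M := ZStarApps.zstarProp hiso g
        rw [hOM, mem_bot, mul_inv_eq_one, mul_inv_eq_iff_eq_mul] at h1
        exact h1.symm
      haveI : ((center M).map M.subtype).Normal := inferInstance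
      have hMc : (center M).map M.subtype = M := by
        refine (hmin' _ inferInstance (map_subtype_le _)).resolve_left fun e => ?_
        have := mem_map_of_mem M.subtype hwc
        rw [e, mem_bot] at this
        exact hw1 (congrArg Subtype.val this)
      -- an abelian normal subgroup of even order gives a normal 2-subgroup
      set M2 : Sylow 2 M := T'
      have hchar : (M2 : Subgroup M).Characteristic := by
        refine M2.characteristic_of_normal ⟨fun x hx g => ?_⟩
        have hg : g ∈ center M := by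
          obtain ⟨g', hg', e⟩ := (hMc.symm ▸ g.2 : (g : N) ∈ (center M).map M.subtype)
          exact M.subtype_injective e ▸ hg'
        rw [← mem_center_iff.1 hg x, mul_inv_cancel_right]
        exact hx
      haveI := hchar
      have hP2 : IsPGroup 2 ((M2 : Subgroup M).map M.subtype) := IsPGroup.map M2.2 _
      have hle : (M2 : Subgroup M).map M.subtype ≤ Cfsg.pCore 2 N := Cfsg.Lib.Components.le_pCore hP2
      haveI : (Cfsg.pCore 2 N).Characteristic := Cfsg.Lib.Components.pCore_characteristic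
      have hbot := hO2 ((Cfsg.pCore 2 N).map N.subtype) inferInstance
        (IsPGroup.map (Cfsg.Lib.Components.isPGroup_pCore 2) _)
      rw [(map_eq_bot_iff_of_injective _ N.subtype_injective).1 hbot, le_bot_iff,
        map_eq_bot_iff_of_injective _ M.subtype_injective] at hle
      have hwT' : (⟨w, hwM⟩ : M) ∈ (M2 : Subgroup M) := by rw [hT']; exact mem_subgroupOf.2 hwS
      rw [hle, mem_bot] at hwT'
      exact hw1 (congrArg (fun x : M => ((x : N) : G)) hwT')
  haveI := hsimple
  have hna : ¬ IsMulCommutative N := fun hcomm => by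
    haveI : IsMulCommutative N := hcomm
    obtain ⟨T, hT⟩ := sylow_in_normal S N
    haveI : (T : Subgroup N).Normal := inferInstance
    haveI : (T : Subgroup N).Characteristic := T.characteristic_of_normal inferInstance
    have h2 := hO2 ((T : Subgroup N).map N.subtype) inferInstance (IsPGroup.map T.2 _)
    have hzT : z ∈ (T : Subgroup N).map N.subtype :=
      ⟨⟨z, hWN hz⟩, by rw [SetLike.mem_coe, hT]; exact mem_subgroupOf.2 hz.1, rfl⟩
    rw [h2, mem_bot] at hzT
    exact hz1 hzT
  by_cases hNtop : N = ⊤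
  · haveI : Nontrivial G := ⟨⟨z, 1, hz1⟩⟩
    exact IsSimpleGroup.isSimpleGroup_of_surjective N.subtype fun g => ⟨⟨g, hNtop ▸ mem_top g⟩, rfl⟩
  exfalso
  -- `G` acts faithfully on `N`
  have hcent : centralizer (N : Set G) = ⊥ := by
    by_contra hne
    have h1 := hW _ inferInstance hne
    refine hna ⟨⟨fun a b => ?_⟩⟩
    have hc' : (⟨z, hWN hz⟩ : N) ∈ center N := mem_center_iff.2 fun g =>
      Subtype.ext (mem_centralizer_iff.1 (h1 hz) g g.2)
    rcases (inferInstance : (center N).Normal).eq_bot_or_eq_top with e | e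
    · rw [e, mem_bot] at hc'; exact absurd (congrArg Subtype.val hc') hz1
    · exact (mem_center_iff.1 (e ▸ mem_top a : a ∈ center N) b).symm
  obtain ⟨T, hT⟩ := sylow_in_normal S N
  set R := (T : Subgroup N) with hRdef
  have hmemR : ∀ x : N, x ∈ R ↔ (x : G) ∈ (S : Subgroup G) := fun x =>
    (SetLike.ext_iff.1 hT x).trans mem_subgroupOf
  have hcardR : ∃ i, Nat.card R = 2 ^ i ∧ (i = 2 ∨ i = 4) := by
    obtain ⟨i, hi⟩ := IsPGroup.iff_card.1 T.2
    refine ⟨i, hi, ?_⟩
    have hR' : Nat.card (R.map N.subtype) = 2 ^ i := by rw [card_map_of_injective N.subtype_injective]; exact hi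
    have hle : R.map N.subtype ≤ (S : Subgroup G) := by rintro _ ⟨x, hx, rfl⟩; exact (hmemR x).1 hx
    have hi6 : i < 6 := by
      by_contra hge
      have h64 : Nat.card (S : Subgroup G) ≤ Nat.card (R.map N.subtype) := by
        rw [hR', h.card_all]
        exact le_trans (by norm_num) (Nat.pow_le_pow_right (by norm_num) (by omega : 6 ≤ i))
      have heq := eq_of_le_of_card_ge hle h64
      refine hNtop (hO' N inferInstance ?_)
      rw [← Nat.not_even_iff_odd, even_iff_two_dvd]
      exact fun hd => S.not_dvd_index (hd.trans (index_dvd_of_le (heq ▸ map_subtype_le R)))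
    have h4 : 4 ≤ 2 ^ i := by
      rw [← hR', ← h.card_cen]
      exact card_le_of_le fun w hw => ⟨⟨w, hWN hw⟩, (hmemR _).2 hw.1, rfl⟩
    -- an element of 3-power order moving `z` has no fixed point
    obtain ⟨e, m, hm, hkord⟩ := Nat.exists_eq_pow_mul_and_not_dvd (orderOf_pos k).ne' 3 (by norm_num)
    set k₁ := k ^ m
    have hk₁ : k₁ * z * k₁⁻¹ ≠ z := fun hf => hkC (mem_of_pow_coprime
      ((Nat.prime_three.coprime_iff_not_dvd).2 hm) hk3 (mem_cent_iff.2 hf))
    haveI : Fact (Nat.Prime 3) := ⟨Nat.prime_three⟩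
    have hA : IsPGroup 3 (zpowers k₁) := by
      refine IsPGroup.of_card (n := e) ?_
      have hm0 : m ≠ 0 := fun h => hm (h ▸ dvd_zero 3)
      rw [Nat.card_zpowers, orderOf_pow_of_dvd hm0 (hkord ▸ dvd_mul_left _ _), hkord,
        Nat.mul_div_cancel _ (Nat.pos_of_ne_zero hm0)]
    set R' := R.map N.subtype
    have hk₁n : k₁ ∈ normalizer ((S : Subgroup G) : Set G) := pow_mem hk m
    have hact : ∀ a : zpowers k₁, ∀ x ∈ R', (a : G) * x * (a : G)⁻¹ ∈ R' := by
      rintro a _ ⟨x, hx, rfl⟩
      refine ⟨MulAut.conjNormal (a : G) x, (hmemR _).2 ?_, MulAut.conjNormal_apply (a : G) x⟩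
      rw [MulAut.conjNormal_apply]
      exact CentralFour.conjOf_mem_normalizer (zpowers_le.2 hk₁n a.2) ((hmemR x).1 hx)
    letI : MulAction (zpowers k₁) R' :=
      { smul := fun a x => ⟨(a : G) * x * (a : G)⁻¹, hact a x x.2⟩
        one_smul := fun x => Subtype.ext (by show ((1 : zpowers k₁) : G) * x * ((1 : zpowers k₁) : G)⁻¹ = x; simp)
        mul_smul := fun a b x => Subtype.ext (by
          show ((a * b : zpowers k₁) : G) * x * ((a * b : zpowers k₁) : G)⁻¹ =
            (a : G) * ((b : G) * x * (b : G)⁻¹) * (a : G)⁻¹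
          rw [Subgroup.coe_mul]; group) }
    have hfix : ∀ x ∈ R', k₁ * x * k₁⁻¹ = x → x = 1 := by
      intro x hx hkx
      by_contra hx1
      have hxS := hle hx
      have key : ∀ w ∈ W, w ≠ 1 → k₁ * w * k₁⁻¹ ≠ w := fun w hw hw1 hf =>
        hk₁ (cen_fix S h hk₁n hw hw1 hf z hz)
      by_cases hxW : x ∈ W
      · exact key x hxW hx1 hkx
      · refine key (x * x) (h.sq_cen x hxS) (h.sq_ne_one hxS hxW) ?_
        calc k₁ * (x * x) * k₁⁻¹ = (k₁ * x * k₁⁻¹) * (k₁ * x * k₁⁻¹) := by group
          _ = x * x := by rw [hkx]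
    have hfp : MulAction.fixedPoints (zpowers k₁) R' = {(1 : R')} := by
      ext x
      refine ⟨fun hx => Subtype.ext (hfix x x.2 (congrArg Subtype.val (hx ⟨k₁, mem_zpowers k₁⟩))),
        fun hx a => ?_⟩
      rw [Set.mem_singleton_iff] at hx
      subst hx
      exact Subtype.ext (show (a : G) * ((1 : R') : G) * (a : G)⁻¹ = 1 by simp)
    have hmod := hA.card_modEq_card_fixedPoints R'
    rw [hfp, Nat.card_unique (α := ({(1 : R')} : Set R')), hR'] at hmod
    interval_cases i
    · omega
    · omega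
    · exact Or.inl rfl
    · exact absurd hmod (by decide)
    · exact Or.inr rfl
    · exact absurd hmod (by decide)
  obtain ⟨i, hi, hi24⟩ := hcardR
  by_cases hab : ∀ a ∈ R, ∀ b ∈ R, a * b = b * a
  · have habS : ∀ U : Sylow 2 N, ∀ x ∈ (U : Subgroup N), ∀ y ∈ (U : Subgroup N), x * y = y * x := fun U => by
      obtain ⟨g, rfl⟩ := MulAction.exists_smul_eq N T U
      intro x hx y hy
      rw [Sylow.coe_subgroup_smul] at hx hy
      obtain ⟨a, ha, rfl⟩ := hx
      obtain ⟨b, hb, rfl⟩ := hy
      show MulAut.conj g a * MulAut.conj g b = MulAut.conj g b * MulAut.conj g a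
      rw [← map_mul, ← map_mul, hab a ha b hb]
    have hel := Walter.Consumers.elem_of_typed (Walter.walterProp N hna habS)
      (fun U => ⟨⟨fun a b => Subtype.ext (habS U a a.2 b b.2)⟩⟩) T
    have hi2 : i = 2 := by
      have hle : R.map N.subtype ≤ W := by
        rintro _ ⟨x, hx, rfl⟩
        exact (h.cen_iff _ ((hmemR x).1 hx)).1 (congrArg Subtype.val (hel x hx))
      have := card_le_of_le hle
      rw [card_map_of_injective N.subtype_injective, hi, h.card_cen] at this
      rcases hi24 with rfl | rfl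
      · rfl
      · norm_num at this
    subst hi2
    have hk4 : IsKleinFour R := by
      refine IsKleinFour.mk (by rw [hi]; norm_num) ?_
      have hd : Monoid.exponent R ∣ 2 := Monoid.exponent_dvd_of_forall_pow_eq_one fun a =>
        Subtype.ext (by push_cast; rw [pow_two]; exact hel a a.2)
      rcases (Nat.dvd_prime Nat.prime_two).1 hd with h' | h'
      · have := Monoid.exp_eq_one_iff.1 h'
        have := (Finite.card_le_one_iff_subsingleton (α := R)).2 this
        rw [hi] at this
        norm_num at this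
      · exact h'
    obtain ⟨F, i1, i2, h8, h5, ⟨e⟩⟩ := Cfsg.Lib.GW.fourGroupProp N T hk4
    obtain ⟨p, hp⟩ := CharP.exists F
    obtain ⟨f, hpp, hF⟩ := FiniteField.card F p
    haveI := Fact.mk hpp
    have hφ : Function.Injective (MulAut.conjNormal : G →* MulAut N) := by
      refine (injective_iff_map_eq_one _).2 fun g hg => mem_bot.1 (hcent ▸ mem_centralizer_iff.2 fun x hx => ?_)
      have := congrArg Subtype.val (DFunLike.congr_fun hg ⟨x, hx⟩)
      rw [MulAut.conjNormal_apply, MulAut.one_apply] at this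
      exact (mul_inv_eq_iff_eq_mul.1 this).symm
    have hdvd : 64 ∣ Nat.card (MulAut (Matrix.ProjectiveSpecialLinearGroup (Fin 2) F)) := by
      rw [← h.card_all, ← Nat.card_congr (MulAut.congr e).toEquiv]
      exact (card_subgroup_dvd_card _).trans (card_dvd_of_injective _ hφ)
    rw [Cfsg.Agent.S0813.result p (f : ℕ) f.pos hF 2 le_rfl (fun _ => by rw [← hF]; omega), if_pos rfl, one_mul,
      Cfsg.Lib.Classical.card_PGL, Cfsg.Lib.Classical.SLTwoTori.card_SL2] at hdvd
    set q := Fintype.card F with hq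
    have hqodd : Nat.Coprime 64 q := by
      rw [show (64 : ℕ) = 2 ^ 6 by norm_num]
      exact Nat.Coprime.pow_left 6 ((Nat.prime_two.coprime_iff_not_dvd).2 (by omega))
    have hfodd : Odd (f : ℕ) := by
      rw [← Nat.not_even_iff_odd]
      rintro ⟨j, hj⟩
      rw [hj, pow_add] at hF
      have hpm : p ^ j % 8 < 8 := Nat.mod_lt _ (by norm_num)
      rw [hF, Nat.mul_mod] at h8
      have h0 : p ^ j * p ^ j % 8 = (p ^ j % 8) * (p ^ j % 8) % 8 := Nat.mul_mod _ _ _
      interval_cases (p ^ j % 8) <;> omega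
    have hf64 : Nat.Coprime 64 (f : ℕ) := by
      rw [show (64 : ℕ) = 2 ^ 6 by norm_num]
      exact Nat.Coprime.pow_left 6 ((Nat.prime_two.coprime_iff_not_dvd).2 hfodd.not_two_dvd_nat)
    have h3 : 64 ∣ q ^ 2 - 1 := hqodd.dvd_of_dvd_mul_left (hf64.dvd_of_dvd_mul_left hdvd)
    have h4 : (q ^ 2) % 16 = 9 := by
      rw [pow_two, Nat.mul_mod]
      have : q % 16 = 3 ∨ q % 16 = 5 ∨ q % 16 = 11 ∨ q % 16 = 13 := by omega
      rcases this with e | e | e | e <;> rw [e]
    omega
  · have hnab : ¬ IsMulCommutative R := fun hc => hab fun a ha b hb =>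
      congrArg Subtype.val (hc.is_comm.comm (⟨a, ha⟩ : R) ⟨b, hb⟩)
    have hWR : (W.subgroupOf N).subgroupOf R ≤ center R := fun a ha => mem_center_iff.2 fun b =>
      Subtype.ext (Subtype.ext ((mem_subgroupOf.1 (mem_subgroupOf.1 ha)).2 _ ((hmemR _).1 b.2)))
    have hWc : Nat.card ((W.subgroupOf N).subgroupOf R) = 4 := by
      have hle : W.subgroupOf N ≤ R := fun x hx => (hmemR x).2 (mem_subgroupOf.1 hx).1
      rw [Nat.card_congr (subgroupOfEquivOfLe hle).toEquiv, Nat.card_congr (subgroupOfEquivOfLe hWN).toEquiv,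
        h.card_cen]
    have hd : (center R).index ∣ ((W.subgroupOf N).subgroupOf R).index := index_dvd_of_le hWR
    have hidx := card_mul_index ((W.subgroupOf N).subgroupOf R)
    rw [hWc, hi] at hidx
    have hnot : ∀ n, (center R).index = n → n ≠ 1 ∧ n ≠ 2 := by
      intro n hn
      have hcyc : ∀ [IsCyclic (R ⧸ center R)], False := fun {_} => by
        letI := commGroupOfCyclicCenterQuotient (QuotientGroup.mk' (center R)) (by rw [QuotientGroup.ker_mk'])
        exact hnab ⟨⟨mul_comm⟩⟩
      refine ⟨fun e => ?_, fun e => ?_⟩ <;> subst e <;> rw [index_eq_card] at hn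
      · haveI := Finite.card_le_one_iff_subsingleton.1 hn.le
        exact hcyc
      · haveI := isCyclic_of_prime_card hn
        exact hcyc
    obtain ⟨h1, h2⟩ := hnot _ rfl
    rcases hi24 with rfl | rfl
    · rw [show ((W.subgroupOf N).subgroupOf R).index = 1 by omega, Nat.dvd_one] at hd
      exact h1 hd
    · rw [show ((W.subgroupOf N).subgroupOf R).index = 4 by omega] at hd
      have h4 : (center R).index = 4 := by
        obtain ⟨j, hj, e⟩ := (Nat.dvd_prime_pow Nat.prime_two).1 (show _ ∣ 2 ^ 2 from hd)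
        interval_cases j <;> simp_all
      obtain ⟨c⟩ := CentralFour.exists_ctx T hnab h4
      obtain ⟨g⟩ := c.dihedral hna
      have := Nat.card_congr g.toEquiv
      rw [hi, DihedralGroup.nat_card] at this
      norm_num at this

end Cfsg.Lib.Lyons.Consumers
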