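import Cfsg.Agent.Lyons.Consumers.Model
import Cfsg.Agent.Lyons.Consumers.Reduce
import Cfsg.Agent.BenderSE.Ring2.UnitarySylow
import Cfsg.Agent.UFourThreeCover.Field

/-!
The groups with a Sylow 2-subgroup of type `U₃(4)`: identification with `PSU₃(4)` from the strongly embedded
subgroup.
-/

set_option autoImplicit false
set_option linter.unusedSectionVars false
set_option linter.style.haveILetI false

namespace Cfsg.Lib.Lyons.Consumers

open Subgroup Cfsg.Lib.InvolCalc Cfsg.Lib.StrongEmb Cfsg.Lib.BenderSE Cfsg.Lib.BenderSE.CritDep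
open Cfsg.Lib.BenderSE.Ring2 Cfsg.Lib.Lyons

universe u

variable {G : Type u} [Group G] [Finite G]

/-- a simple group with such a Sylow subgroup and a strongly embedded subgroup is `PSU₃(4)` -/
theorem iso_of_embedded [IsSimpleGroup G] {F : Type*} [Field F] [Fintype F] (hF : Fintype.card F = 16)
    (S : Sylow 2 G) (h : UFour (S : Subgroup G)) {M : Subgroup G} (hM : Cfsg.IsStronglyEmbedded M) :
    Nonempty (G ≃* Cfsg.PSU 3 F 4) := by
  haveI : Fact (Nat.Prime 2) := ⟨Nat.prime_two⟩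
  set W := cenOf (S : Subgroup G) with hW
  obtain ⟨z, hz, hz1⟩ : ∃ z ∈ W, z ≠ 1 := by
    by_contra hh
    push Not at hh
    have := h.card_cen
    rw [← hW, (eq_bot_iff_forall _).2 hh, card_bot] at this
    omega
  have hrank : HasCommutingInvolutions G := hasComm_of_rankAtLeast
    ⟨W, ⟨⟨fun a b => Subtype.ext (b.2.2 a a.2.1)⟩⟩, fun a ha => by rw [pow_two]; exact h.cen_sq ha,
      by rw [hW, h.card_cen]; norm_num⟩
  have hO : Cfsg.oddCore G = ⊥ := by
    refine ((inferInstance : (Cfsg.oddCore G).Normal).eq_bot_or_eq_top).resolve_right fun e => ?_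
    have hodd := odd_oddCore (G := G)
    rw [e, card_top] at hodd
    exact (Nat.not_even_iff_odd.2 hodd)
      (even_iff_two_dvd.2 (h.orderOf_eq_two hz hz1 ▸ _root_.orderOf_dvd_natCard z))
  have hset : Setting M := ⟨hM, le_bot_iff.1 (hO ▸
    Cfsg.Lib.Components.le_pPrimeCore (Nat.coprime_two_right.2 (odd_normalCore hM))), hrank⟩
  obtain ⟨L, Q, Fr⟩ := exists_frame regProp hset
  obtain ⟨S', hS'⟩ := Fr.sylow
  obtain ⟨g, hg⟩ := MulAction.exists_smul_eq G S S'
  have he : (S : Subgroup G).map (MulAut.conj g).toMonoidHom = Q := by rw [← hS', ← hg]; rfl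
  have hQ : UFour Q := he ▸ uFour_map _ (MulAut.conj g).injective h
  have hcount : Nat.card {i : G // orderOf i = 2 ∧ i ∈ M} + 1 = 4 := by
    rw [← hQ.card_cen]
    have hset' : (cenOf Q : Set G) = insert 1 {i : G | orderOf i = 2 ∧ i ∈ M} := by
      ext i
      constructor
      · intro hi
        refine (em (i = 1)).imp id fun hi1 => ⟨?_, Fr.qle (show i ∈ Q from hi.1)⟩
        exact order_two_of_mul_self ((hQ.cen_iff i hi.1).2 hi) hi1
      · rintro (rfl | ⟨hi, hiM⟩)
        · exact one_mem _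
        · exact (hQ.cen_iff i (Fr.qinvol i hi hiM).1).1 (sq_of_order_two hi)
    rw [← SetLike.coe_sort_coe, hset', Nat.card_coe_set_eq, Set.ncard_insert_of_notMem
      (fun h1 => by simp at h1) (Set.toFinite _), ← Nat.card_coe_set_eq]
    rfl
  obtain ⟨E, iE, iE', hE, ⟨f⟩⟩ := frame_unitary_of_cube Fr hset (by rw [hcount, hQ.card_all]; norm_num)
  have hL : L = ⊤ := Fr.normal.eq_bot_or_eq_top.resolve_left fun e => by
    have := Fr.invol z (h.orderOf_eq_two hz hz1)
    rw [e, mem_bot] at this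
    exact hz1 this
  have hEF : Fintype.card E = Fintype.card F := by rw [hE, hcount, hF]; norm_num
  obtain ⟨f'⟩ := Cfsg.Lib.UFourThreeCover.psu_congr (FiniteField.ringEquivOfCardEq (K := E) (K' := F) hEF) 3 4
  have key : ∀ r, r = 4 → Nonempty (L ≃* Cfsg.PSU 3 E r) → Nonempty (G ≃* Cfsg.PSU 3 F 4) := by
    rintro r rfl ⟨k⟩
    exact ⟨(topEquiv.symm.trans (MulEquiv.subgroupCongr hL.symm)).trans (k.trans f')⟩
  exact key _ hcount ⟨f⟩

/-- S0486 from Lyons's theorem -/
theorem simple_main (hLy : LyonsProp.{u}) [IsSimpleGroup G] {F : Type*} [Field F] [Fintype F]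
    (hF : Fintype.card F = 16) (S : Sylow 2 G) (P : Sylow 2 (Cfsg.PSU 3 F 4))
    (hS : Nonempty ((S : Subgroup G) ≃* (P : Subgroup (Cfsg.PSU 3 F 4)))) :
    Nonempty (G ≃* Cfsg.PSU 3 F 4) := by
  obtain ⟨e⟩ := hS
  have h : UFour (S : Subgroup G) := (uFour_psu hF P).of_equiv e
  obtain ⟨M, hM⟩ := hLy G S h
  exact iso_of_embedded hF S h hM

/-- S3176 from Lyons's theorem -/
theorem reduced_main (hLy : LyonsProp.{u}) {F : Type*} [Field F] [Fintype F]
    (hF : Fintype.card F = 16) (S : Sylow 2 G) (P : Sylow 2 (Cfsg.PSU 3 F 4))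
    (hS : Nonempty ((S : Subgroup G) ≃* (P : Subgroup (Cfsg.PSU 3 F 4))))
    (hO : Cfsg.oddCore G = ⊥) (hO' : ∀ N : Subgroup G, N.Normal → Odd N.index → N = ⊤) :
    Nonempty (G ≃* Cfsg.PSU 3 F 4) ∨ (S : Subgroup G) = ⊤ := by
  obtain ⟨e⟩ := hS
  have h : UFour (S : Subgroup G) := (uFour_psu hF P).of_equiv e
  rcases simple_or_top S h hO hO' with hs | ht
  · haveI := hs
    obtain ⟨M, hM⟩ := hLy G S h
    exact Or.inl (iso_of_embedded hF S h hM)
  · exact Or.inr ht

end Cfsg.Lib.Lyons.Consumers
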