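import Cfsg.Agent.Lyons.Local.UFour

/-!
The Sylow 2-subgroups of `PSU₃(4)` are of type `U₃(4)`.
-/

set_option autoImplicit false
set_option linter.unusedSectionVars false
set_option linter.style.haveILetI false

namespace Cfsg.Lib.Lyons.Consumers

open Subgroup Cfsg.Lib.BenderSE.Ring2 Cfsg.Lib.Lyons
open Matrix Cfsg.Lib.Classical Cfsg.Lib.Fusion.PSU Cfsg.Lib.Known.AutPSLn Cfsg.Lib.SuzukiTwo.Unitary

theorem uFour_sylU {F : Type*} [Field F] [Fintype F] [CharP F 2] {σ : F →+* F} {hσ : IsConj σ}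
    (h4 : Nat.card (fixedField σ) = 4) : UFour (⊤ : Subgroup (sylU 3 hσ)) := by
  classical
  have hcen : ∀ g : sylU 3 hσ, g ∈ cenOf (⊤ : Subgroup (sylU 3 hσ)) ↔ bc g = 0 := fun g => by
    rw [mem_cenOf, ← center_iff, Subgroup.mem_center_iff]
    exact ⟨fun h y => h.2 y (mem_top y), fun h => ⟨mem_top g, fun y _ => h y⟩⟩
  have hcomm : ∀ g h : sylU 3 hσ, g * h = h * g ↔ bc g * σ (bc h) = bc h * σ (bc g) := fun g h => by
    constructor
    · intro e
      have := congrArg cc e
      rw [cc_mul, cc_mul] at this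
      linear_combination this
    · intro e
      refine ext_coord (by rw [bc_mul, bc_mul, add_comm]) ?_
      rw [cc_mul, cc_mul]
      linear_combination e
  refine ⟨fun g _ => (sq_eq_one_iff g).trans (hcen g).symm, fun g _ => (hcen _).2 (bc_sq g),
    fun x _ hx z hz => ?_, fun x _ y _ w _ hy h1 h2 => ?_, ?_, ?_⟩
  · obtain ⟨θ, hθ⟩ := hσ.exists_trace_one
    have hbx : bc x ≠ 0 := fun e => hx ((hcen x).2 e)
    have hbz : bc z = 0 := (hcen z).1 hz
    set N := bc x * σ (bc x) with hN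
    have hN0 : N ≠ 0 := mul_ne_zero hbx (fun e => hbx (hσ.eq_zero.1 e))
    have hNf : σ N = N := hσ.norm_mem _
    have hcz : σ (cc z) = cc z := cc_fixed hbz
    obtain ⟨r, hr⟩ := FiniteField.isSquare_of_char_two (ringChar.eq (fixedField σ) 2)
      (⟨cc z / N, by rw [mem_fixedField, map_div₀, hcz, hNf]⟩ : fixedField σ)
    have hrF : cc z / N = (r : F) * (r : F) := congrArg Subtype.val hr
    have hrs : σ (r : F) = r := mem_fixedField.mp r.2
    have hrel : θ * cc z + σ (θ * cc z) + ((r : F) * bc x) * σ ((r : F) * bc x) = 0 := by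
      rw [map_mul, map_mul, hcz, hrs]
      have e : (r : F) * (r : F) * N = cc z := by rw [← hrF, div_mul_cancel₀ _ hN0]
      rw [hN] at e
      linear_combination (cc z) * hθ + e + (cc z) * (CharTwo.two_eq_zero (R := F))
    refine ⟨el _ _ hrel, mem_top _, ?_, ?_⟩
    · rw [hcomm, bc_el, map_mul, hrs]
      ring
    · refine ext_coord (by rw [bc_sq, hbz]) ?_
      rw [cc_sq, bc_el, map_mul, hrs]
      have e : (r : F) * (r : F) * N = cc z := by rw [← hrF, div_mul_cancel₀ _ hN0]
      rw [hN] at e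
      linear_combination e
  · have hby : bc y ≠ 0 := fun e => hy ((hcen y).2 e)
    rw [hcomm] at h1 h2 ⊢
    refine mul_right_cancel₀ (mul_ne_zero hby (fun e => hby (hσ.eq_zero.1 e))) ?_
    linear_combination (bc y * σ (bc w)) * h1 + (bc y * σ (bc x)) * h2
  · have e : cenOf (⊤ : Subgroup (sylU 3 hσ)) = Subgroup.center (sylU 3 hσ) :=
      SetLike.ext fun g => (hcen g).trans (center_iff g).symm
    rw [e, card_center, h4]
  · rw [Subgroup.card_top, card_sylU, h4]
    norm_num

theorem uFour_map {G H : Type*} [Group G] [Group H] (f : G →* H) (hf : Function.Injective f) {R : Subgroup G}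
    (h : UFour R) : UFour (R.map f) :=
  h.of_equiv (R.equivMapOfInjective f hf).symm

/-- the Sylow 2-subgroups of `PSU₃(4)` -/
theorem uFour_psu {F : Type*} [Field F] [Fintype F] (hF : Fintype.card F = 16)
    (S : Sylow 2 (Cfsg.PSU 3 F 4)) : UFour (S : Subgroup (Cfsg.PSU 3 F 4)) := by
  classical
  haveI : Fact (Nat.Prime 2) := ⟨Nat.prime_two⟩
  haveI : CharP F 2 := by
    refine CharTwo.of_one_ne_zero_of_two_eq_zero one_ne_zero ?_
    have h0 : ((Fintype.card F : ℕ) : F) = 0 := FiniteField.cast_card_eq_zero F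
    rw [hF, show (16 : ℕ) = 2 ^ 4 by norm_num, Nat.cast_pow, Nat.cast_ofNat] at h0
    exact (pow_eq_zero_iff (by omega)).mp h0
  have hF2 : Fintype.card F = 4 ^ 2 := by rw [hF]; norm_num
  set hσ := powConj_isConj hF2
  have hfix : Nat.card (fixedField (powConj hF2)) = 4 := by
    have h1 := hσ.card_eq_sq
    rw [Nat.card_eq_fintype_card (α := F), hF2] at h1
    exact (Nat.pow_left_injective (by norm_num) h1).symm
  obtain ⟨E⟩ := exists_equiv hF2 3
  set π : antiSU 3 hσ →* Cfsg.PSU 3 F 4 :=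
    (QuotientGroup.mk' (Subgroup.center (Cfsg.SU 3 F 4))).comp E.toMonoidHom
  have hπ : Function.Surjective π := (QuotientGroup.mk'_surjective _).comp E.surjective
  obtain ⟨Q, hQ⟩ := exists_sylow (hσ := hσ) (n := 3) 2
  have hinj : Function.Injective (π.comp (sylU 3 hσ).subtype) := by
    refine (injective_iff_map_eq_one _).mpr fun g hg => Subtype.ext (E.injective ?_)
    have hz : E g ∈ Subgroup.center (Cfsg.SU 3 F 4) := (QuotientGroup.eq_one_iff _).mp hg
    rw [Subgroup.coe_one, map_one, ← orderOf_eq_one_iff]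
    have h1 : (E g) ^ Nat.gcd 3 (4 + 1) = 1 := by
      rw [← card_center_SU hF2 (show 2 ≤ 3 by omega)]
      exact congrArg Subtype.val (pow_card_eq_one' (G := Subgroup.center (Cfsg.SU 3 F 4)) (x := ⟨E g, hz⟩))
    have h2 := (orderOf_dvd_of_pow_eq_one h1).trans (Nat.gcd_dvd_left _ _)
    obtain ⟨k, hk⟩ := isPGroup_sylU (hσ := hσ) (n := 3) 2 g
    have h3 : orderOf (E g) ∣ 2 ^ k := orderOf_dvd_of_pow_eq_one (by
      rw [← map_pow, show (g : antiSU 3 hσ) ^ 2 ^ k = 1 from congrArg Subtype.val hk, map_one])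
    exact Nat.eq_one_of_dvd_coprimes (Nat.Coprime.pow_left k (by norm_num)) h3 h2
  have h := uFour_map _ hinj (uFour_sylU (hσ := hσ) hfix)
  rw [← MonoidHom.range_eq_map, MonoidHom.range_comp, Subgroup.range_subtype] at h
  obtain ⟨g, hg⟩ := MulAction.exists_smul_eq (Cfsg.PSU 3 F 4) (Q.mapSurjective hπ) S
  have h2 := uFour_map (MulAut.conj g).toMonoidHom (MulAut.conj g).injective h
  have he : ((sylU 3 hσ).map π).map (MulAut.conj g).toMonoidHom = (S : Subgroup (Cfsg.PSU 3 F 4)) := by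
    rw [← hg, ← hQ, ← Sylow.coe_mapSurjective]
    rfl
  rwa [he] at h2

end Cfsg.Lib.Lyons.Consumers
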